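import Mathlib
import Cfsg.Agent.Chev.St

/-! Words in the root elements `x_r(1)` in characteristic two, evaluated on bit vectors. -/

set_option autoImplicit false
set_option linter.unusedSectionVars false

namespace Cfsg.Agent.DCE.E6
open Cfsg.Lie Cfsg.Agent.Chev Matrix

noncomputable section
/-- the mask of a column -/
def mk2 (L : List (ℕ × ℕ × ℤ)) : ℕ :=
  List.rec 0 (fun q _ ih => Bool.rec (Nat.xor ih (Nat.pow 2 q.1)) ih (ieq (q.2.2 % 2) 0)) L
/-- table lookup -/
def lk (l : List (ℕ × ℕ)) (b : ℕ) : ℕ :=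
  List.rec 0 (fun e _ ih => Bool.rec ih (Nat.xor ih e.2) (Nat.beq e.1 b)) l
/-- one letter -/
def apE (l : List (ℕ × ℕ)) (v : ℕ) : ℕ :=
  List.rec v (fun e _ ih => Bool.rec (Nat.xor ih e.2) ih (Nat.beq (bit v e.1) 0)) l
/-- check of the table of a letter -/
def chkT (c : Cert) (D : ChevalleyDatum) (n r : ℕ) (l : List (ℕ × ℕ)) : Bool :=
  lall l (fun e => Nat.blt e.1 n) && allN n fun b =>
    lall (c.colT D r (row D r) b) (fun q => Nat.blt q.1 n) &&
      Nat.beq (mk2 (c.colT D r (row D r) b)) (lk l b)
/-- a word -/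
def apW (T : List (List (ℕ × ℕ))) (w : List ℕ) (v : ℕ) : ℕ :=
  List.rec v (fun r _ ih => force ih (apE (T.getD r []))) w
/-- equality of two words -/
def eqW (T : List (List (ℕ × ℕ))) (n : ℕ) (w1 w2 : List ℕ) : Bool :=
  allN n fun b => force (Nat.pow 2 b) fun v => Nat.beq (apW T w1 v) (apW T w2 v)
end

variable {D : ChevalleyDatum} [g : Good D] {F : Type*} [Field F]

variable (D F) in
/-- the vector of a mask -/
noncomputable def evB (n v : ℕ) : D.Idx → F :=
  ∑ b ∈ Finset.range n, if v.testBit b then bv D F b else 0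

variable (D F) in
/-- the value of a word -/
noncomputable def wB (w : List ℕ) : GL D.Idx F := wd (glSys D F).x (w.map fun r => (r, 1))

theorem wB_nil : wB D F [] = 1 := rfl

theorem wB_append (a b : List ℕ) : wB D F (a ++ b) = wB D F a * wB D F b := by
  simp [wB, wd]

theorem wB_single (r : Rt D) : wB D F [(r : ℕ)] = (glSys D F).x r 1 := by
  simp [wB, wd]

theorem wB_cons (r : ℕ) (a : List ℕ) : wB D F (r :: a) = wB D F [r] * wB D F a :=
  wB_append [r] a

theorem wB_val (r : ℕ) : (wB D F [r] : Matrix D.Idx D.Idx F) = D.x F r 1 := by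
  have := wd_XG_val (D := D) (F := F) [(r, 1)]
  rw [ChevalleyDatum.wordMat, List.map_singleton, List.prod_singleton] at this
  exact this

omit g in
theorem evB_zero (n : ℕ) : evB D F n 0 = 0 := by simp [evB]

omit g in
theorem evB_pow {n b : ℕ} (h : b < n) : evB D F n (2 ^ b) = bv D F b := by
  rw [evB, Finset.sum_eq_single b]
  · simp
  · intro c _ hc
    rw [Nat.testBit_two_pow_of_ne hc.symm]; simp
  · intro hb; exact absurd (Finset.mem_range.mpr h) hb

omit g in
theorem evB_inr {n v : ℕ} (s : Rt D) (h : D.rank + s < n) :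
    evB D F n v (Sum.inr s) = if v.testBit (D.rank + s) then 1 else 0 := by
  rw [evB, Finset.sum_apply, Finset.sum_eq_single (D.rank + s)]
  · split_ifs
    · rw [bv_add]; simp [eV]
    · rfl
  · intro c _ hc
    split_ifs
    · unfold bv
      split_ifs with h1
      · rfl
      · have : (s : ℕ) ≠ c - D.rank := by omega
        simp [eV, this]
    · rfl
  · intro hb; exact absurd (Finset.mem_range.mpr h) hb

variable [CharP F 2]

omit g in
theorem add_self2 (v : D.Idx → F) : v + v = 0 := by
  ext i; exact CharTwo.add_self_eq_zero _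

omit g in
theorem evB_xor (n a b : ℕ) : evB D F n (Nat.xor a b) = evB D F n a + evB D F n b := by
  rw [evB, evB, evB, ← Finset.sum_add_distrib]
  refine Finset.sum_congr rfl fun c _ => ?_
  rw [show Nat.xor a b = a ^^^ b from rfl, Nat.testBit_xor]
  cases a.testBit c <;> cases b.testBit c <;> simp [add_self2]

omit g in
theorem evC_one {n : ℕ} (L : List (ℕ × ℕ × ℤ)) (h : ∀ q ∈ L, q.1 < n) :
    evC (D := D) (1 : F) L = evB D F n (mk2 L) := by
  induction L with
  | nil => simp [evC, mk2, evB_zero]
  | cons q L ih =>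
    have ih' := ih fun q hq => h q (List.mem_cons_of_mem _ hq)
    have e : evC (D := D) (1 : F) (q :: L) = (q.2.2 : F) • bv D F q.1 + evC (D := D) (1 : F) L := by
      simp [evC]
    rw [e, ih']
    change _ = evB D F n (Bool.rec (Nat.xor (mk2 L) (Nat.pow 2 q.1)) (mk2 L) (ieq (q.2.2 % 2) 0))
    rcases Int.emod_two_eq_zero_or_one q.2.2 with h0 | h0
    · have : (q.2.2 : F) = 0 := (CharP.intCast_eq_zero_iff F 2 _).mpr (Int.dvd_of_emod_eq_zero h0)
      rw [this, (ieq_iff _ _).mpr h0]; simp
    · have : (q.2.2 : F) = 1 := by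
        have h2 : ((q.2.2 - 1 : ℤ) : F) = 0 :=
          (CharP.intCast_eq_zero_iff F 2 _).mpr (by push_cast; omega)
        push_cast at h2; exact sub_eq_zero.mp h2
      rw [this, (ieq_false_iff _ _).mpr (by omega), one_smul]
      change _ = evB D F n (Nat.xor (mk2 L) (2 ^ q.1))
      rw [evB_xor, evB_pow (h q List.mem_cons_self), add_comm]

omit g in
theorem apE_aux {n : ℕ} (l : List (ℕ × ℕ)) (h : ∀ e ∈ l, e.1 < n) (v : ℕ) :
    evB D F n (apE l v) = evB D F n v +
      ∑ b ∈ Finset.range n, if v.testBit b then evB D F n (lk l b) else 0 := by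
  induction l with
  | nil => simp [apE, lk, evB_zero]
  | cons e l ih =>
    have ih' := ih fun q hq => h q (List.mem_cons_of_mem _ hq)
    have e1 : ∀ b, evB D F n (lk (e :: l) b) =
        evB D F n (lk l b) + if b = e.1 then evB D F n e.2 else 0 := by
      intro b
      change evB D F n (Bool.rec (lk l b) (Nat.xor (lk l b) e.2) (Nat.beq e.1 b)) = _
      by_cases hb : b = e.1
      · rw [if_pos hb, hb, Nat.beq_refl]; exact evB_xor _ _ _
      · have : Nat.beq e.1 b = false := by
          rw [← Bool.not_eq_true, Nat.beq_eq]; exact Ne.symm hb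
        rw [if_neg hb, this, add_zero]
    have e2 : (∑ b ∈ Finset.range n, if v.testBit b then evB D F n (lk (e :: l) b) else 0) =
        (∑ b ∈ Finset.range n, if v.testBit b then evB D F n (lk l b) else 0) +
          if v.testBit e.1 then evB D F n e.2 else 0 := by
      have : (if v.testBit e.1 then evB D F n e.2 else 0) = ∑ b ∈ Finset.range n,
          if b = e.1 then (if v.testBit b then evB D F n e.2 else 0) else 0 := by
        rw [Finset.sum_ite_eq' , if_pos (Finset.mem_range.mpr (h e List.mem_cons_self))]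
      rw [this, ← Finset.sum_add_distrib]
      refine Finset.sum_congr rfl fun b _ => ?_
      rw [e1]
      split_ifs <;> simp
    rw [e2, ← add_assoc, ← ih']
    change evB D F n (Bool.rec (Nat.xor (apE l v) e.2) (apE l v) (Nat.beq (bit v e.1) 0)) = _
    by_cases hb : v.testBit e.1 = true
    · have : bit v e.1 = 1 := by
        rw [Nat.testBit_eq_decide_div_mod_eq, decide_eq_true_eq, ← Nat.shiftRight_eq_div_pow] at hb
        exact hb
      rw [if_pos hb, this]; exact evB_xor _ _ _
    · have : bit v e.1 = 0 := by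
        rw [Nat.testBit_eq_decide_div_mod_eq, decide_eq_true_eq, ← Nat.shiftRight_eq_div_pow] at hb
        have : bit v e.1 = (v >>> e.1) % 2 := rfl
        omega
      rw [if_neg hb, this, add_zero]; rfl

theorem apE_spec {n : ℕ} (r : Rt D) {l : List (ℕ × ℕ)} (h : chkT g.cert D n r l = true) (v : ℕ) :
    D.x F r 1 *ᵥ evB D F n v = evB D F n (apE l v) := by
  simp only [chkT, Bool.and_eq_true, lall_iff, allN_iff, Nat.blt_eq, Nat.beq_eq] at h
  rw [apE_aux l h.1, evB, mulVec_sum, ← Finset.sum_add_distrib]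
  refine Finset.sum_congr rfl fun b hb => ?_
  have hb' := h.2 b (Finset.mem_range.mp hb)
  split_ifs
  · rw [colT_spec, evC_one _ hb'.1, hb'.2]
  · simp

theorem apW_spec {n : ℕ} {T : List (List (ℕ × ℕ))} (hl : T.length = D.nroots)
    (h : ∀ r < D.nroots, chkT g.cert D n r (T.getD r []) = true) (w : List ℕ) (v : ℕ) :
    (wB D F w : Matrix D.Idx D.Idx F) *ᵥ evB D F n v = evB D F n (apW T w v) := by
  induction w with
  | nil => simp [wB_nil, apW]
  | cons r w ih =>
    rw [wB_cons, Units.val_mul, ← mulVec_mulVec, ih, wB_val]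
    change _ = evB D F n (force (apW T w v) (apE (T.getD r [])))
    rw [force_eq]
    by_cases hr : r < D.nroots
    · exact apE_spec ⟨r, hr⟩ (h r hr) _
    · rw [x_of_le (not_lt.mp hr), one_mulVec, List.getD_eq_default _ _ (by omega)]; rfl

theorem eqW_spec {T : List (List (ℕ × ℕ))} (hl : T.length = D.nroots)
    (h : ∀ r < D.nroots, chkT g.cert D (D.rank + D.nroots) r (T.getD r []) = true) {a b : List ℕ}
    (e : eqW T (D.rank + D.nroots) a b = true) : wB D F a = wB D F b := by
  simp only [eqW, allN_iff, force_eq, Nat.beq_eq] at e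
  refine Units.ext (mat_ext_bv fun c hc => ?_)
  rw [← evB_pow hc, apW_spec hl h, apW_spec hl h]
  exact congrArg _ (e c hc)

theorem ne_one_spec {T : List (List (ℕ × ℕ))} (hl : T.length = D.nroots)
    (h : ∀ r < D.nroots, chkT g.cert D (D.rank + D.nroots) r (T.getD r []) = true) {a : List ℕ}
    (v : ℕ) (s : Rt D) (e : (apW T a v).testBit (D.rank + s) ≠ v.testBit (D.rank + s)) :
    wB D F a ≠ 1 := by
  intro h1
  have h2 := apW_spec (F := F) hl h a v
  rw [h1, Units.val_one, one_mulVec] at h2
  have h3 := congrFun h2 (Sum.inr s)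
  have hs : D.rank + s < D.rank + D.nroots := by have := s.2; omega
  rw [evB_inr s hs, evB_inr s hs] at h3
  revert h3 e
  cases (apW T a v).testBit (D.rank + s) <;> cases v.testBit (D.rank + s) <;> simp

end Cfsg.Agent.DCE.E6
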