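import Mathlib
import Cfsg.Agent.Chev.TwE6
import Cfsg.Agent.DCE.E6.Dat

/-! The stabiliser in the Weyl group of `E₆` of an element of order five. -/

set_option autoImplicit false
set_option maxRecDepth 100000

namespace Cfsg.Agent.DCE.E6
open Cfsg.Lie Cfsg.Agent.Chev

attribute [local instance] good2E6

/-- roots -/
abbrev R6 : Type := Rt chevE6
/-- a root from its number -/
def rt (n : ℕ) : R6 := ⟨n % 72, Nat.mod_lt _ (by decide)⟩
/-- first end node -/
def p1 : R6 := sim (nE6 0)
/-- second end node -/
def p6 : R6 := sim (nE6 5)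
/-- a base of the subsystem -/
def β : Fin 3 → R6 := ![rt 69, rt 39, rt 46]
/-- the exponent -/
def ee (r : R6) : ℤ := pr p1 r + 2 * pr p6 r
/-- reflection tables -/
def RT : Fin 3 → ℕ := ![45555531879478466821752498963686024266295154665469591862448499689270160091540764443214879703857013469987554285193195776531879767348129327852438240380725596626603632083935256, 68856980314703697980439144254334973515401028023823060939175680109056393390696631820261994746199928716884708600540244424635743493790229057459399689936210111163618278074548736, 67898379116758311409174261616388753868225998791303625563428882050626415270252589797741478371984307561973422256644613195820774439032392954730690482532434882508821640184463361]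
/-- reflections -/
def act (i : Fin 3) (s : R6) : R6 := rt (byte (RT i) s)
/-- codes -/
def cd (a b c d : ℤ) : ℕ := (a + 5 * (b + 2) + 25 * (c + 2) + 125 * (d + 2)).toNat
/-- decoding -/
def dc (n : ℕ) : R6 := rt (byte 1177983679519939380199682827358922630302451876587265342308603873388646768821808142717388143912824846563104767798411032123447970890239483108701856058188963003325338976943044332772775482953454749529749949999489243821276541372820876009817091914949694797660507968189157678366585820431365430162191210137311281557859899575815052649274660082953356007963502740346419572403043909345564574009562686863194309325391255088882272770277240732872034239861288626723680301709620814070547450011165498445526505407344217239820094356107103589758640987720588234481527842326687762531888170216891617977953075073791417908033538288602734463562862843359138711542119623086534916149841581946327915368037248072437681444513776358724026498122027347741267143636058199036209376531401021095794189524917241610546298835139212624768333085431398505922726552556929279343883030295398385121038727924629292115827168830211841592478956234058560732551557981945270057683765904166320988699306643109640569649784062469312074530900183301967089253234528486613930428139485154757028190131503811131301432967219322174354053094419811808307228499933629581147471159867474142071392414875307378718997982472390525117180061911233780664803747848218375590423694213428988894410800509802790737001853962562774867651467927488214629907268322292588072390881181696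 n)
/-- the elements of the Weyl group of the subsystem -/
def WL : List (List (Fin 3)) := [[], [0], [1], [2], [1, 0], [2, 0], [0, 1], [2, 1], [1, 2], [0, 1, 0], [2, 1, 0], [1, 2, 0], [2, 0, 1], [1, 2, 1], [0, 1, 2], [2, 0, 1, 0], [1, 2, 1, 0], [0, 1, 2, 0], [1, 2, 0, 1], [0, 1, 2, 1], [1, 2, 0, 1, 0], [0, 1, 2, 1, 0], [0, 1, 2, 0, 1], [0, 1, 2, 0, 1, 0]]
/-- the class modulo the root lattice -/
def cl (m : Ix chevE6 → ℤ) : ℤ := m (nE6 0) + 2 * m (nE6 2) + m (nE6 4) + 2 * m (nE6 5)

theorem act_chk : ∀ (i : Fin 3) (s : R6) (j : Ix chevE6),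
    co (act i s) j = co s j - pr (β i) s * co (β i) j := by decide +kernel
theorem act_ee : ∀ (i : Fin 3) (s : R6), ee (act i s) = ee s := by decide +kernel
theorem dc_cd : ∀ s : R6, dc (cd (ee s % 5) (pr (β 0) s) (pr (β 1) s) (pr (β 2) s)) = s := by
  decide +kernel
theorem dvd_ee : ∀ r : R6, 5 ∣ ee r ↔ (r : ℕ) ∈ A3L := by decide +kernel
theorem ee_β : ∀ i, ee (β i) = 0 := by decide +kernel
theorem pr_β : pr (β 0) (β 1) = -1 ∧ pr (β 1) (β 2) = -1 ∧ pr (β 0) (β 2) = 0 := by decide +kernel
theorem tri_chk : ∀ a ∈ A3L, ∀ b ∈ A3L, pr (rt a) (rt b) = -1 → ∀ c ∈ A3L, pr (rt b) (rt c) = -1 →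
    pr (rt a) (rt c) = 0 → ∃ l ∈ WL, l.foldr act (β 1) = rt b ∧
      ((l.foldr act (β 0) = rt a ∧ l.foldr act (β 2) = rt c) ∨
        (l.foldr act (β 0) = rt c ∧ l.foldr act (β 2) = rt a)) := by decide +kernel
theorem cl_ca : ∀ i : Ix chevE6, 3 ∣ cl fun a => ca i (sim a) := by decide +kernel
theorem cl_swap : ¬ 3 ∣ cl (fun j => co (dc (cd (ee (sim j) % 5) (pr (β 2) (sim j)) (pr (β 1) (sim j))
    (pr (β 0) (sim j)))) (nE6 0)) - cl (Pi.single (nE6 0) 1) := by decide +kernel
theorem reg_chk : ∀ r : R6, ¬ 15 ∣ 3 * ee r + (0 * pr (β 0) r + 1 * pr (β 1) r + 5 * pr (β 2) r) := by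
  decide +kernel
theorem so_chk : ∀ r : R6, (r : ℕ) ∈ A3L → SO chevE6 p1 r ∧ SO chevE6 p6 r ∧ symE6.p r = r ∧
    ((ng r : R6) : ℕ) ∈ A3L := by decide +kernel
theorem β_mem : ∀ i, ((β i : R6) : ℕ) ∈ A3L := by decide +kernel
theorem rh_chk : ∀ r : R6, ((symE6.p r : R6) : ℕ) = rh r ∧ symE6.p (symE6.p r) = r ∧
    (symE6.p r ≠ r → symE6.p r ≠ r ∧ symE6.p r ≠ ng r ∧ chevE6.commTerms r (symE6.p r) = []) := by
  decide +kernel

theorem rt_val (r : R6) : rt r = r := Fin.ext (Nat.mod_eq_of_lt r.2)

theorem rW_β (i : Fin 3) (s : R6) : rW (β i) • s = act i s :=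
  co_inj (by rw [co_rW]; funext j; rw [act_chk]; simp)

theorem pr_smul (w : W chevE6) (r s : R6) : pr (w • r) (w • s) = pr r s := by
  rw [pr_smul_left, inv_smul_smul]

/-- the stabiliser -/
def Kw : Subgroup (W chevE6) where
  carrier := {w | ∀ r, 5 ∣ ee (w • r) - ee r}
  one_mem' r := by simp
  mul_mem' := fun {v w} hv hw r => by
    have h1 := hv (w • r); have h2 := hw r
    rw [mul_smul]; omega
  inv_mem' := fun {w} hw r => by
    have h1 := hw (w⁻¹ • r)
    rw [smul_inv_smul] at h1; omega

/-- words -/
noncomputable def vW (l : List (Fin 3)) : W chevE6 := (l.map fun i => rW (β i)).prod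

theorem vW_smul (l : List (Fin 3)) (s : R6) : vW l • s = l.foldr act s := by
  induction l with
  | nil => simp [vW]
  | cons i l ih =>
    rw [List.foldr_cons, ← ih, ← rW_β, ← mul_smul]; simp [vW]

theorem vW_mem (l : List (Fin 3)) : vW l ∈ Kw := by
  refine Subgroup.list_prod_mem _ fun x hx => ?_
  obtain ⟨i, -, rfl⟩ := List.mem_map.mp hx
  intro r
  rw [rW_β, act_ee]; simp

theorem smul_eq_dc {w : W chevE6} (hw : w ∈ Kw) (s : R6) : w • s = dc (cd (ee s % 5)
    (pr (w⁻¹ • β 0) s) (pr (w⁻¹ • β 1) s) (pr (w⁻¹ • β 2) s)) := by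
  have h := hw s
  have e : ee (w • s) % 5 = ee s % 5 := by omega
  rw [pr_smul_left, pr_smul_left, pr_smul_left, inv_inv, ← e, dc_cd]

theorem eq_one_of_fix {w : W chevE6} (hw : w ∈ Kw) (h : ∀ i, w • β i = β i) : w = 1 := by
  refine W_ext fun s => ?_
  have h' : ∀ i, w⁻¹ • β i = β i := fun i => by rw [inv_smul_eq_iff, h]
  rw [smul_eq_dc hw, h', h', h', dc_cd, one_smul]

theorem cl_inv (w : W chevE6) : ∀ m : Ix chevE6 → ℤ,
    3 ∣ cl (fun j => lin m (co (w • sim j))) - cl m := by
  induction w using W_ind_left with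
  | h1 => intro m; simp
  | hs i w _ ih =>
    intro m
    have h1 := ih fun a => lin m (co (sW i • sim a))
    have e : (fun j => lin m (co ((sW i * w) • sim j))) =
        fun j => lin (fun a => lin m (co (sW i • sim a))) (co (w • sim j)) := by
      funext j; rw [mul_smul, lin_co_smul]
    have e2 : ∀ a, lin m (co (sW i • sim a)) = m a - m i * ca i (sim a) := by
      intro a
      change lin m (co (rf i (sim a))) = _
      rw [co_rf, map_sub, map_smul]; simp [lin_apply, mul_comm, Pi.single_apply]
    have h2 := cl_ca i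
    rw [e]
    simp only [e2] at h1 ⊢
    obtain ⟨x, hx⟩ := h1
    obtain ⟨y, hy⟩ := h2
    refine ⟨x - m i * y, ?_⟩
    simp only [cl] at hx hy ⊢
    linear_combination hx - m i * hy

theorem not_swap {w : W chevE6} (hw : w ∈ Kw) (h0 : w • β 0 = β 2) (h1 : w • β 1 = β 1)
    (h2 : w • β 2 = β 0) : False := by
  have e0 : w⁻¹ • β 0 = β 2 := by rw [inv_smul_eq_iff, h2]
  have e1 : w⁻¹ • β 1 = β 1 := by rw [inv_smul_eq_iff, h1]
  have e2 : w⁻¹ • β 2 = β 0 := by rw [inv_smul_eq_iff, h0]
  have h := cl_inv w (Pi.single (nE6 0) 1)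
  simp only [lin_single', smul_eq_dc hw, e0, e1, e2] at h
  exact cl_swap h

theorem exists_vW {w : W chevE6} (hw : w ∈ Kw) : ∃ l, w = vW l := by
  have hm : ∀ i, ((w • β i : R6) : ℕ) ∈ A3L := fun i => by
    have := hw (β i)
    rw [ee_β, sub_zero] at this
    exact (dvd_ee _).mp this
  obtain ⟨l, -, h1, h⟩ := tri_chk _ (hm 0) _ (hm 1) (by rw [rt_val, rt_val, pr_smul, pr_β.1]) _ (hm 2)
    (by rw [rt_val, rt_val, pr_smul, pr_β.2.1]) (by rw [rt_val, rt_val, pr_smul, pr_β.2.2])
  simp only [rt_val, ← vW_smul] at h1 h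
  have hu : (vW l)⁻¹ * w ∈ Kw := mul_mem (inv_mem (vW_mem l)) hw
  rcases h with ⟨h0, h2⟩ | ⟨h0, h2⟩
  · refine ⟨l, (inv_mul_eq_one.mp (eq_one_of_fix hu fun i => ?_)).symm⟩
    rw [mul_smul, inv_smul_eq_iff]
    fin_cases i
    exacts [h0.symm, h1.symm, h2.symm]
  · refine (not_swap hu ?_ ?_ ?_).elim <;> rw [mul_smul, inv_smul_eq_iff]
    exacts [h2.symm, h1.symm, h0.symm]

end Cfsg.Agent.DCE.E6
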