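import Mathlib
import Cfsg.Agent.Chev.Ss
import Cfsg.Agent.Chev.SL2
import Cfsg.Agent.Chev.Tori
import Cfsg.Agent.Chev.AutK
import Cfsg.Agent.DCE.E6.Wey

/-! The centralizer of an element of order five, over the field with sixteen elements. -/

set_option autoImplicit false
set_option linter.unusedSectionVars false
set_option maxRecDepth 100000

namespace Cfsg.Agent.DCE.E6
open Cfsg.Lie Cfsg.Agent.Chev StSys

attribute [local instance] good2E6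

/-- nodes -/
abbrev I6 : Type := Ix chevE6
/-- the Cartan map -/
def cA (δ : I6 → ℤ) : I6 → ℤ := fun j => ∑ i, δ i * ca i (sim j)
/-- the twisted Frobenius map -/
noncomputable def cB (δ : I6 → ℤ) : I6 → ℤ := fun i => δ (symE6.π.symm i) * 2
/-- the first reflection -/
def cC (m : I6 → ℤ) : I6 → ℤ := fun j => lin m (co (sW (nE6 0) • sim j))
/-- the exponents of the element of order five -/
def mc : I6 → ℤ := fun j => 3 * ee (sim j)
/-- its coordinates -/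
def δ0 : I6 → ℤ := fun i => if i = nE6 0 then 3 else if i = nE6 5 then 6 else 0

theorem mc_eq : mc = cA δ0 := by decide +kernel
theorem mc_fix : ∀ j, 15 ∣ cA (cB δ0) j - cC mc j := by decide +kernel
theorem lin_mc : ∀ r : R6, lin mc (co r) = 3 * ee r := by decide +kernel

theorem ca_tab : ∀ i j : Fin 6, ca (nE6 i) (sim (nE6 j)) =
    (![![2, 0, -1, 0, 0, 0], ![0, 2, 0, -1, 0, 0], ![-1, 0, 2, -1, 0, 0],
      ![0, -1, -1, 2, -1, 0], ![0, 0, 0, -1, 2, -1], ![0, 0, 0, 0, -1, 2]] : Fin 6 → Fin 6 → ℤ) i j := by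
  decide +kernel
theorem π_tab : ∀ i : Fin 6, symE6.π.symm (nE6 i) = nE6 (![5, 1, 4, 3, 2, 0] i) := by
  decide +kernel
theorem mc_tab : ∀ i : Fin 6, mc (nE6 i) = ![6, 0, -3, 0, -6, 12] i := by decide +kernel

theorem cA_eq (δ : I6 → ℤ) (j : Fin 6) : cA δ (nE6 j) = ![2 * δ (nE6 0) - δ (nE6 2),
    2 * δ (nE6 1) - δ (nE6 3), 2 * δ (nE6 2) - δ (nE6 0) - δ (nE6 3),
    2 * δ (nE6 3) - δ (nE6 1) - δ (nE6 2) - δ (nE6 4), 2 * δ (nE6 4) - δ (nE6 3) - δ (nE6 5),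
    2 * δ (nE6 5) - δ (nE6 4)] j := by
  change ∑ i : Fin 6, δ (nE6 i) * ca (nE6 i) (sim (nE6 j)) = _
  rw [Fin.sum_univ_six]
  simp only [ca_tab]
  fin_cases j <;> simp <;> ring

theorem cC_eq (m : I6 → ℤ) (j : I6) : cC m j = m j - m (nE6 0) * ca (nE6 0) (sim j) := by
  change lin m (co (rf (nE6 0) (sim j))) = _
  rw [co_rf, map_sub, map_smul]; simp [lin_apply, mul_comm, Pi.single_apply]

theorem arith1 (a c e f : ℤ) (h : 3 ∣ a + 2 * c + e + 2 * f) (h2 : 15 ∣ 2 * e - c - a)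
    (h4 : 15 ∣ 2 * c - e) (h5 : 15 ∣ 2 * a - f) :
    ∃ i : ℤ, 15 ∣ a - i * 6 ∧ 15 ∣ c - i * -3 ∧ 15 ∣ e - i * -6 ∧ 15 ∣ f - i * 12 := by
  obtain ⟨x, hx⟩ := h4
  obtain rfl : e = 2 * c - 15 * x := by omega
  obtain ⟨y, hy⟩ := h2
  obtain rfl : a = 3 * c - 30 * x - 15 * y := by omega
  obtain ⟨z, hz⟩ := h5
  obtain rfl : f = 6 * c - 60 * x - 30 * y - 15 * z := by omega
  have h6 : 3 ∣ c := by omega
  obtain ⟨w, rfl⟩ := h6
  refine ⟨-w, ?_, ?_, ?_, ?_⟩ <;> omega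

theorem arith0 (a b c d e f : ℤ)
    (h1 : 15 ∣ 2 * (b * 2) - d * 2 - (2 * b - d - (2 * a - c) * 0))
    (h2 : 15 ∣ 2 * (e * 2) - f * 2 - d * 2 - (2 * c - a - d - (2 * a - c) * -1))
    (h3 : 15 ∣ 2 * (d * 2) - b * 2 - e * 2 - c * 2 - (2 * d - b - c - e - (2 * a - c) * 0))
    (h4 : 15 ∣ 2 * (c * 2) - d * 2 - a * 2 - (2 * e - d - f - (2 * a - c) * 0))
    (h5 : 15 ∣ 2 * (a * 2) - c * 2 - (2 * f - e - (2 * a - c) * 0)) :
    ∃ i : ℤ, 15 ∣ 2 * a - c - i * 6 ∧ 15 ∣ 2 * b - d - i * 0 ∧ 15 ∣ 2 * c - a - d - i * -3 ∧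
      15 ∣ 2 * d - b - c - e - i * 0 ∧ 15 ∣ 2 * e - d - f - i * -6 ∧ 15 ∣ 2 * f - e - i * 12 := by
  obtain ⟨i, k0, k2, k4, k5⟩ := arith1 (2 * a - c) (2 * c - a - d) (2 * e - d - f) (2 * f - e)
    (by omega) (by convert h2 using 1; ring) (by convert h4 using 1; ring)
    (by convert h5 using 1; ring)
  exact ⟨i, k0, by convert h1 using 1; ring, k2, by convert h3 using 1; ring, k4, k5⟩

theorem arith (δ : I6 → ℤ) (h : ∀ j, 15 ∣ cA (cB δ) j - cC (cA δ) j) :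
    ∃ i : ℤ, ∀ j, 15 ∣ cA δ j - (i • mc) j := by
  have hh : ∀ j : Fin 6, 15 ∣ cA (cB δ) (nE6 j) - (cA δ (nE6 j) - cA δ (nE6 0) *
    ca (nE6 0) (sim (nE6 j))) := fun j => cC_eq (cA δ) (nE6 j) ▸ h (nE6 j)
  simp only [cA_eq, ca_tab, cB, π_tab] at hh
  obtain ⟨i, k0, k1, k2, k3, k4, k5⟩ := arith0 (δ (nE6 0)) (δ (nE6 1)) (δ (nE6 2)) (δ (nE6 3))
    (δ (nE6 4)) (δ (nE6 5)) (hh 1) (hh 2) (hh 3) (hh 4) (hh 5)
  have key : ∀ j : Fin 6, 15 ∣ cA δ (nE6 j) - i * mc (nE6 j) := by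
    intro j
    rw [cA_eq, mc_tab]
    fin_cases j
    exacts [k0, k1, k2, k3, k4, k5]
  exact ⟨i, key⟩

variable {k : Type*} [Field k] (θ : kˣ)

/-- diagonal elements -/
def dz (m : I6 → ℤ) : GL chevE6.Idx k := dgU fun j => θ ^ m j

theorem tor_zpow (m v : I6 → ℤ) : tor (fun j => θ ^ m j) v = θ ^ lin m v := by
  rw [tor, lin_apply, zpow_sum_eq]
  refine Finset.prod_congr rfl fun i _ => ?_
  rw [← zpow_mul, mul_comm]

theorem dz_add (m m' : I6 → ℤ) : dz θ (m + m') = dz θ m * dz θ m' := by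
  rw [dz, dz, dz, ← dgU_mul]; congr 1; funext j; simp [zpow_add]

theorem dz_smul (i : ℤ) (m : I6 → ℤ) : dz θ (i • m) = dz θ m ^ i := by
  rw [dz, dz, ← dgH_apply, ← dgH_apply, ← map_zpow]; congr 1; funext j
  simp [← zpow_mul, mul_comm]

theorem h_eq_dz (r : R6) (a : ℤ) :
    (glSys chevE6 k).h r ((θ ^ a : kˣ) : k) = dz θ fun j => a * pr r (sim j) := by
  refine Units.ext ?_
  rw [gl_h_val, hMat_eq_dg _ (Units.ne_zero _)]
  change _ = dg _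
  congr 1; funext s
  rw [tor_zpow, ← Units.val_zpow_eq_zpow_val, ← zpow_mul, pr_eq r s]
  simp [lin_apply, Finset.mul_sum, mul_left_comm]

theorem hT_eq_dz (δ : I6 → ℤ) : gl_R3.hT (fun i => θ ^ δ i) = dz θ (cA δ) := by
  rw [gl_hT, dz]; congr 1; funext j
  rw [pw_apply, cA, zpow_sum_eq]
  refine Finset.prod_congr rfl fun i _ => ?_
  rw [← zpow_mul]; rfl

theorem conj_dz {a : GL chevE6.Idx k} (ha : a ∈ (glSys chevE6 k).N) {w : W chevE6}
    (hm : (glSys chevE6 k).Mono a w) (m : I6 → ℤ) :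
    a⁻¹ * dz θ m * a = dz θ fun j => lin m (co (w • sim j)) := by
  rw [dz, conj_dgU ha hm, dz]; simp only [tor_zpow]

theorem dz_conj (m : I6 → ℤ) (r : R6) (t : k) : dz θ m * (glSys chevE6 k).x r t * (dz θ m)⁻¹ =
    (glSys chevE6 k).x r ((θ ^ lin m (co r) : kˣ) * t) := by
  rw [← tor_zpow]; exact dgU_conj _ _ _

variable {θ}

theorem zpow_eq_iff (hθ : orderOf θ = 15) {a b : ℤ} : θ ^ a = θ ^ b ↔ 15 ∣ a - b := by
  rw [zpow_eq_zpow_iff_modEq, hθ, Int.modEq_comm, Int.modEq_iff_dvd]; rfl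

theorem dz_eq_iff (hθ : orderOf θ = 15) {m m' : I6 → ℤ} :
    dz θ m = dz θ m' ↔ ∀ j, 15 ∣ m j - m' j := by
  rw [dz, dz, ← dgH_apply, ← dgH_apply, dgH_inj.eq_iff, funext_iff]
  simp only [zpow_eq_iff hθ]

theorem mem_psi (hθ : orderOf θ = 15) {r : R6} :
    r ∈ Psi (fun j => θ ^ mc j) ↔ (r : ℕ) ∈ A3L := by
  rw [← dvd_ee, Psi, Set.mem_ofPred_eq, tor_zpow, lin_mc, ← zpow_zero θ, zpow_eq_iff hθ]
  omega

theorem kw_of_kc (hθ : orderOf θ = 15) {w : W chevE6} (h : w ∈ Kc fun j => θ ^ mc j) : w ∈ Kw := by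
  intro r
  have := h r
  rw [tor_zpow, tor_zpow, lin_mc, lin_mc, zpow_eq_iff hθ] at this
  omega

variable (k) in
/-- the subgroup of type `A₃` over the prime field -/
def LL : Subgroup (GL chevE6.Idx k) :=
  Subgroup.closure {a | ∃ r : R6, (r : ℕ) ∈ A3L ∧ a = (glSys chevE6 k).x r 1}
variable (k) in
/-- the subgroup of type `A₃` -/
def XA : Subgroup (GL chevE6.Idx k) := (glSys chevE6 k).XS {r | (r : ℕ) ∈ A3L}
variable (k) in
/-- the subgroup of type `A₁ × A₁` -/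
def XP : Subgroup (GL chevE6.Idx k) := (glSys chevE6 k).XS {p1, ng p1, p6, ng p6}

theorem x_mem_LL {r : R6} (h : (r : ℕ) ∈ A3L) : (glSys chevE6 k).x r 1 ∈ LL k :=
  Subgroup.subset_closure ⟨r, h, rfl⟩

theorem LL_le : LL k ≤ XA k := (Subgroup.closure_le _).mpr <| by
  rintro _ ⟨r, hr, rfl⟩; exact StSys.x_mem _ hr _

theorem comm_PA {a y : GL chevE6.Idx k} (ha : a ∈ XP k) (hy : y ∈ XA k) : Commute a y := by
  have h1 : XP k ≤ Subgroup.centralizer {y} := by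
    refine (StSys.XS_le _).mpr fun s hs t => Subgroup.mem_centralizer_singleton_iff.mpr ?_
    have h2 : XA k ≤ Subgroup.centralizer {(glSys chevE6 k).x s t} := by
      refine (StSys.XS_le _).mpr fun r hr u => Subgroup.mem_centralizer_singleton_iff.mpr ?_
      obtain ⟨s1, s6, -⟩ := so_chk r hr
      have hx : (glSys chevE6 k).x r u ∈ (glSys chevE6 k).XS {r, ng r} :=
        StSys.x_mem _ (Or.inl rfl) _
      rcases hs with rfl | rfl | rfl | rfl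
      · exact (s1.commute _ (StSys.x_mem _ (Or.inl rfl) _) hx).symm
      · exact (s1.commute _ (StSys.x_mem _ (Or.inr rfl) _) hx).symm
      · exact (s6.commute _ (StSys.x_mem _ (Or.inl rfl) _) hx).symm
      · exact (s6.commute _ (StSys.x_mem _ (Or.inr rfl) _) hx).symm
    exact (Subgroup.mem_centralizer_singleton_iff.mp (h2 hy)).symm
  exact Subgroup.mem_centralizer_singleton_iff.mp (h1 ha)

theorem n_mem_LL {r : R6} (h : (r : ℕ) ∈ A3L) : (glSys chevE6 k).n r 1 ∈ LL k := by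
  rw [StSys.n, inv_one, StSys.x_neg]
  exact mul_mem (mul_mem (x_mem_LL h) (inv_mem (x_mem_LL (so_chk r h).2.2.2))) (x_mem_LL h)

theorem exists_n_vW (l : List (Fin 3)) : ∃ n ∈ LL k, n ∈ (glSys chevE6 k).N ∧
    (glSys chevE6 k).Mono n (vW l) := by
  induction l with
  | nil => exact ⟨1, one_mem _, one_mem _, Mono.one⟩
  | cons i l ih =>
    obtain ⟨n, h1, h2, h3⟩ := ih
    exact ⟨_, mul_mem (n_mem_LL (β_mem i)) h1, mul_mem (StSys.n_mem_N _ _ one_ne_zero) h2,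
      (StSys.mono_n _ _ one_ne_zero).mul h3⟩

theorem p_P : ∀ r ∈ ({p1, ng p1, p6, ng p6} : Set R6),
    symE6.p r ∈ ({p1, ng p1, p6, ng p6} : Set R6) := by
  have : ∀ r : R6, (r = p1 ∨ r = ng p1 ∨ r = p6 ∨ r = ng p6) → (symE6.p r = p1 ∨ symE6.p r = ng p1 ∨
    symE6.p r = p6 ∨ symE6.p r = ng p6) := by decide +kernel
  exact this

variable {T : Tw (glSys chevE6 k) symE6} (hT : ∀ r t, T.φ r t = t ^ 2)
include hT

theorem LL_le_Fx : LL k ≤ T.Fx := (Subgroup.closure_le _).mpr <| by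
  rintro _ ⟨r, hr, rfl⟩
  exact (Tw.x_mem_Fx (so_chk r hr).2.2.1).mpr (by rw [hT, one_pow])

theorem mem_LL_of_fix {c : I6 → ℤ} {R : Set R6} (hU : Uni c R) (hR : ∀ r ∈ R, (r : ℕ) ∈ A3L)
    {u : GL chevE6.Idx k} (hu : u ∈ (glSys chevE6 k).XS R) (h : T.f u = u) : u ∈ LL k := by
  obtain ⟨L, hL, hLR⟩ := exists_list R
  obtain ⟨t, rfl⟩ := StSys.exists_prd _ hU hL hLR hu
  have e : T.f ((glSys chevE6 k).prd L t) = (glSys chevE6 k).prd L fun r => t r ^ 2 := by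
    rw [T.f_prd, StSys.prd]
    congr 1
    refine List.map_congr_left fun r hr => ?_
    rw [(so_chk r (hR r ((hLR r).mp hr))).2.2.1, hT]
  rw [e] at h
  have h2 := StSys.prd_inj _ hU hL (fun r hr => (hLR r).mp hr) h
  refine Subgroup.list_prod_mem _ fun x hx => ?_
  obtain ⟨r, hr, rfl⟩ := List.mem_map.mp hx
  have h3 : t r * (t r - 1) = 0 := by linear_combination h2 r hr
  rcases mul_eq_zero.mp h3 with h4 | h4
  · rw [h4, StSys.x_zero]; exact one_mem _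
  · rw [sub_eq_zero.mp h4]; exact x_mem_LL (hR r ((hLR r).mp hr))

theorem f_dz (δ : I6 → ℤ) : T.f (dz θ (cA δ)) = dz θ (cA (cB δ)) := by
  rw [← hT_eq_dz, ← hT_eq_dz, T.f_hT gl_R3 (e := fun _ => 2) fun i t => hT _ _]
  congr 1; funext i
  change (θ ^ δ (symE6.π.symm i)) ^ 2 = _
  rw [← zpow_natCast, ← zpow_mul]; rfl

theorem twist_conj (hθ : orderOf θ = 15) {g : GL chevE6.Idx k} (hg : g ∈ XP k)
    (hA : g * dz θ mc * g⁻¹ ∈ T.Fx) {z : GL chevE6.Idx k} (hz : z ∈ (glSys chevE6 k).H) :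
    g⁻¹ * T.f g * z * (g⁻¹ * T.f g)⁻¹ =
      (glSys chevE6 k).ns (nE6 0) * z * ((glSys chevE6 k).ns (nE6 0))⁻¹ := by
  set n1 := (glSys chevE6 k).ns (nE6 0) with hn1
  have hH : dz θ mc ∈ (glSys chevE6 k).H := by rw [mc_eq, ← hT_eq_dz]; exact gl_R3.hT_mem _
  have hg' : g ∈ (glSys chevE6 k).grp := (glSys chevE6 k).XS_le_grp _ hg
  have e1 : T.f (dz θ mc) = n1⁻¹ * dz θ mc * n1 := by
    rw [conj_dz θ ((glSys chevE6 k).ns_mem _) ((glSys chevE6 k).mono_ns _)]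
    conv_lhs => rw [mc_eq]
    rw [f_dz hT, dz_eq_iff hθ]; exact mc_fix
  have e2 := hA.2
  rw [T.f_mul3 hg' ((glSys chevE6 k).H_le_grp hH) (inv_mem hg'), T.f_inv hg', e1] at e2
  have hfg : T.f g ∈ XP k := T.mem_XS p_P hg
  have hn : n1 ∈ XP k := StSys.n_mem _ (Or.inl rfl) (Or.inr (Or.inl rfl)) _
  set y := g⁻¹ * T.f g * n1⁻¹ with hy
  have hyP : y ∈ XP k := mul_mem (mul_mem (inv_mem hg) hfg) (inv_mem hn)
  have hyg : y ∈ (glSys chevE6 k).grp := (glSys chevE6 k).XS_le_grp _ hyP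
  have c1 : Commute (dz θ mc) y := by
    have : y * dz θ mc * y⁻¹ = dz θ mc := by
      rw [hy, show g⁻¹ * T.f g * n1⁻¹ * dz θ mc * (g⁻¹ * T.f g * n1⁻¹)⁻¹ =
        g⁻¹ * (T.f g * (n1⁻¹ * dz θ mc * n1) * (T.f g)⁻¹) * g by group, e2]; group
    exact (mul_inv_eq_iff_eq_mul.mp this).symm
  have hb : ∀ i (a : ℤ), (glSys chevE6 k).h (β i) ((θ ^ a : kˣ) : k) ∈ XA k := fun i a =>
    StSys.h_mem _ (β_mem i) (so_chk _ (β_mem i)).2.2.2 _
  set z0 := dz θ mc * ((glSys chevE6 k).h (β 0) ((θ ^ (0 : ℤ) : kˣ) : k) * (glSys chevE6 k).h (β 1) ((θ ^ (1 : ℤ) : kˣ) : k) *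
    (glSys chevE6 k).h (β 2) ((θ ^ (5 : ℤ) : kˣ) : k)) with hz0
  have c2 : Commute z0 y :=
    c1.mul_left (comm_PA hyP (mul_mem (mul_mem (hb _ _) (hb _ _)) (hb _ _))).symm
  have hz0H : z0 ∈ (glSys chevE6 k).H := mul_mem hH (mul_mem (mul_mem ((glSys chevE6 k).h_mem_H _ (Units.ne_zero _))
    ((glSys chevE6 k).h_mem_H _ (Units.ne_zero _))) ((glSys chevE6 k).h_mem_H _ (Units.ne_zero _)))
  have hN : y ∈ (glSys chevE6 k).N := by
    refine StSys.mem_N_of_reg hyg hz0H (χ := fun r => ((θ ^ (3 * ee r +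
      (0 * pr (β 0) r + 1 * pr (β 1) r + 5 * pr (β 2) r)) : kˣ) : k)) (fun r t => ?_)
      (fun r hr => ?_) (by rw [c2.eq, mul_inv_cancel_right])
    · rw [hz0, h_eq_dz, h_eq_dz, h_eq_dz, ← dz_add, ← dz_add, ← dz_add, dz_conj]
      congr 4
      rw [← lin_mc, pr_eq (β 0) r, pr_eq (β 1) r, pr_eq (β 2) r]
      simp only [lin_apply, Pi.add_apply, Finset.mul_sum, ← Finset.sum_add_distrib]
      refine Finset.sum_congr rfl fun i _ => by ring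
    · have h1 : θ ^ (3 * ee r + (0 * pr (β 0) r + 1 * pr (β 1) r + 5 * pr (β 2) r)) = θ ^ (0 : ℤ) := by
        rw [zpow_zero]; exact Units.ext hr
      rw [zpow_eq_iff hθ, sub_zero] at h1
      exact reg_chk r h1
  obtain ⟨w, hw⟩ := StSys.exists_mono hN
  have hK : w ∈ Kw := kw_of_kc hθ ((mem_Cz_iff hN hw).mp (mem_Cz.mpr ⟨hyg, c1.eq⟩))
  have hw1 : w = 1 := eq_one_of_fix hK fun i => by
    obtain ⟨c, -, h1, -⟩ := hw.exists_conj (β i)
    have h2 := h1 1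
    rw [(comm_PA hyP (StSys.x_mem _ (β_mem i) 1)).eq, mul_inv_cancel_right] at h2
    exact ((glSys chevE6 k).eq_of_x_eq one_ne_zero h2).symm
  have hyH : y ∈ (glSys chevE6 k).H := StSys.mem_H_of_mono hN (hw1 ▸ hw)
  have h3 := gl_H_comm _ hyH _ (StSys.conj_mem_H ((glSys chevE6 k).ns_mem (nE6 0)) hz)
  rw [show g⁻¹ * T.f g = y * n1 by rw [hy]; group,
    show y * n1 * z * (y * n1)⁻¹ = y * (n1 * z * n1⁻¹) * y⁻¹ by group, h3, mul_inv_cancel_right]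

theorem cent_main (hθ : orderOf θ = 15) (hθ' : ∀ x : kˣ, x ∈ Subgroup.zpowers θ)
    {g : GL chevE6.Idx k} (hg : g ∈ XP k) (hA : g * dz θ mc * g⁻¹ ∈ T.Fx) {y : GL chevE6.Idx k}
    (hy : y ∈ T.Fx) (hc : Commute y (g * dz θ mc * g⁻¹)) :
    ∃ i : ℤ, ∃ s ∈ LL k, y = (g * dz θ mc * g⁻¹) ^ i * s := by
  have hg' : g ∈ (glSys chevE6 k).grp := (glSys chevE6 k).XS_le_grp _ hg
  have hfg : T.f g ∈ XP k := T.mem_XS p_P hg
  have h1 : g⁻¹ * y * g ∈ Cz chevE6 k (dgU fun j => θ ^ mc j) := by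
    refine mem_Cz.mpr ⟨mul_mem (mul_mem (inv_mem hg') hy.1) hg', ?_⟩
    change dz θ mc * _ = _ * dz θ mc
    rw [show g⁻¹ * y * g * dz θ mc = g⁻¹ * (y * (g * dz θ mc * g⁻¹)) * g by group, hc.eq]; group
  obtain ⟨w, hw, h2⟩ := exists_Cz h1
  obtain ⟨l, rfl⟩ := exists_vW (kw_of_kc hθ hw)
  obtain ⟨n, hnL, hnN, hm⟩ := exists_n_vW (k := k) l
  obtain ⟨u, hu, z, hz, v, hv, e⟩ := h2 n hnN hm
  have hp : ∀ (R : Set R6), ∀ r ∈ R ∩ Psi (fun j => θ ^ mc j), symE6.p r ∈ R ∩ Psi (fun j => θ ^ mc j) :=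
    fun R r hr => by rw [(so_chk r ((mem_psi hθ).mp hr.2)).2.2.1]; exact hr
  have hA' : ∀ (R : Set R6), (glSys chevE6 k).XS (R ∩ Psi (fun j => θ ^ mc j)) ≤ XA k := fun R =>
    (glSys chevE6 k).XS_mono fun r hr => (mem_psi hθ).mp hr.2
  have hu' := T.mem_XS (hp _) hu
  have hv' := T.mem_XS (hp _) hv
  have hnF : T.f n = n := (LL_le_Fx hT hnL).2
  have ey : y = g * (u * z * n * v) * g⁻¹ := by rw [← e]; group
  have hug := (glSys chevE6 k).XS_le_grp _ hu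
  have hvg := (glSys chevE6 k).XS_le_grp _ hv
  have hzg := (glSys chevE6 k).H_le_grp hz
  have hng := (glSys chevE6 k).N_le_grp hnN
  have e2 := hy.2
  conv_lhs at e2 => rw [ey, T.f_mul3 hg' (mul_mem (mul_mem (mul_mem hug hzg) hng) hvg) (inv_mem hg'),
    T.f_inv hg', T.f_mul _ (mul_mem (mul_mem hug hzg) hng) _ hvg, T.f_mul3 hug hzg hng, hnF]
  have hmP : g⁻¹ * T.f g ∈ XP k := mul_mem (inv_mem hg) hfg
  have e3 : u * (z * n) * v = T.f u * ((glSys chevE6 k).ns (nE6 0) * T.f z * ((glSys chevE6 k).ns (nE6 0))⁻¹ * n) * T.f v := by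
    rw [← twist_conj hT hθ hg hA (T.mem_H hz)]
    have c1 := (comm_PA hmP (hA' _ hu')).eq
    have c2 := (comm_PA (inv_mem hmP) (mul_mem (LL_le hnL) (hA' _ hv'))).eq
    calc u * (z * n) * v = g⁻¹ * y * g := by rw [e]; group
      _ = (g⁻¹ * T.f g * T.f u) * T.f z * (n * T.f v * (g⁻¹ * T.f g)⁻¹) := by
        rw [← e2]; group
      _ = _ := by rw [c1, ← c2]; group
  have hz' : (glSys chevE6 k).ns (nE6 0) * T.f z * ((glSys chevE6 k).ns (nE6 0))⁻¹ ∈ (glSys chevE6 k).H :=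
    StSys.conj_mem_H ((glSys chevE6 k).ns_mem _) (T.mem_H hz)
  obtain ⟨f1, f2, f3⟩ := StSys.normal_unique' (w := vW l)
    ((glSys chevE6 k).XS_mono Set.inter_subset_left hu) ((glSys chevE6 k).XS_mono Set.inter_subset_left hu')
    (mul_mem ((glSys chevE6 k).H_le_N hz) hnN) (mul_mem ((glSys chevE6 k).H_le_N hz') hnN)
    (by simpa using (StSys.mono_of_mem_H hz).mul hm)
    (by simpa using (StSys.mono_of_mem_H hz').mul hm)
    ((glSys chevE6 k).XS_mono Set.inter_subset_left hv) ((glSys chevE6 k).XS_mono Set.inter_subset_left hv') e3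
  have huL : u ∈ LL k := mem_LL_of_fix hT (uni_psi uni_pos _)
    (fun r hr => (mem_psi hθ).mp hr.2) hu f1.symm
  have hvL : v ∈ LL k := mem_LL_of_fix hT (uni_psi (uni_invs _) _)
    (fun r hr => (mem_psi hθ).mp hr.2) hv f3.symm
  obtain ⟨d, rfl⟩ := gl_R3.exists_hT hz
  choose δ hδ using fun i => Subgroup.mem_zpowers_iff.mp (hθ' (d i))
  obtain rfl : d = fun i => θ ^ δ i := funext fun i => (hδ i).symm
  rw [hT_eq_dz] at f2 ey
  have f4 : dz θ (cA (cB δ)) = dz θ (cC (cA δ)) := by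
    rw [← f_dz hT, show dz θ (cC (cA δ)) = _ from
      (conj_dz θ ((glSys chevE6 k).ns_mem (nE6 0)) ((glSys chevE6 k).mono_ns _) (cA δ)).symm]
    conv_rhs => rw [mul_right_cancel f2]
    group
  obtain ⟨i, hi⟩ := arith δ ((dz_eq_iff hθ).mp f4)
  rw [(dz_eq_iff hθ).mpr hi, dz_smul] at ey
  have hsL : u * n * v ∈ LL k := mul_mem (mul_mem huL hnL) hvL
  refine ⟨i, _, hsL, ?_⟩
  have hH : dz θ mc ∈ XP k := by
    have : dz θ mc = (glSys chevE6 k).h p1 ((θ ^ (3 : ℤ) : kˣ) : k) * (glSys chevE6 k).h p6 ((θ ^ (6 : ℤ) : kˣ) : k) := by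
      rw [h_eq_dz, h_eq_dz, ← dz_add]; congr 1; funext j; simp only [mc, ee, Pi.add_apply]; ring
    rw [this]
    exact mul_mem (StSys.h_mem _ (Or.inl rfl) (Or.inr (Or.inl rfl)) _)
      (StSys.h_mem _ (Or.inr (Or.inr (Or.inl rfl))) (Or.inr (Or.inr (Or.inr rfl))) _)
  have c1 := (comm_PA (zpow_mem hH i) (LL_le huL)).eq
  have c2 := (comm_PA (inv_mem hg) (LL_le hsL)).eq
  rw [ey, ← c1, conj_zpow]
  calc g * (dz θ mc ^ i * u * n * v) * g⁻¹ = g * dz θ mc ^ i * (u * n * v * g⁻¹) := by group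
    _ = _ := by rw [← c2]; group

end Cfsg.Agent.DCE.E6
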