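import Mathlib
import Cfsg.Agent.H2.Carm
import Cfsg.Agent.DCE.E6.Cen

/-! Elements of order five in `²E₆(2)`. -/

set_option autoImplicit false
set_option linter.unusedSectionVars false
set_option maxRecDepth 100000

namespace Cfsg.Agent.DCE.E6
open Cfsg.Lie Cfsg.Agent.Chev StSys

attribute [local instance] good2E6

section a8
variable {F : Type*} [Field F]

theorem A3L_lt : ∀ r ∈ A3L, r < 72 := by decide

theorem wB_mem_LL {w : List ℕ} (h : ∀ r ∈ w, r ∈ A3L) : wB chevE6 F w ∈ LL F := by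
  induction w with
  | nil => exact one_mem _
  | cons r w ih =>
    have hr := h r List.mem_cons_self
    rw [wB_cons]
    exact mul_mem (wB_single (F := F) (⟨r, A3L_lt r hr⟩ : R6) ▸ x_mem_LL hr)
      (ih fun s hs => h s (List.mem_cons_of_mem _ hs))

theorem wB_flatMap {K : Subgroup (GL chevE6.Idx F)} {f : ℕ → List ℕ} {l : List ℕ}
    (h : ∀ i ∈ l, wB chevE6 F (f i) ∈ K) : wB chevE6 F (l.flatMap f) ∈ K := by
  induction l with
  | nil => exact one_mem _
  | cons r w ih =>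
    rw [List.flatMap_cons, wB_append]
    exact mul_mem (h r List.mem_cons_self) (ih fun s hs => h s (List.mem_cons_of_mem _ hs))

theorem tw_mem : ∀ i < 6, ∀ r ∈ tw i, r ∈ A3L := by decide
theorem rwL_cov : ∀ r ∈ A3L, ∃ e ∈ rwL, e.1 = r ∧ ∀ i ∈ e.2, i < 6 := by decide

variable (F) in
theorem exists_A8 [CharP F 2] : ∃ φ : alternatingGroup (Fin 8) →* GL chevE6.Idx F,
    Function.Injective φ ∧ φ.range = LL F := by
  have h01 : (0 : Fin 8) ≠ 1 := by decide
  have hlt : ∀ c : H2.Carm.Idx (0 : Fin 8) 1, c.1.val - 2 < 6 := fun c => by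
    have := c.1.2; omega
  have hp : ∀ i < 6, ∀ j < 6, i < j → (wB chevE6 F (tw i) * wB chevE6 F (tw j)) ^ 2 = 1 := by
    intro i hi j hj hij
    have := (allN_iff _ _).mp ((allN_iff _ _).mp tw_pair i hi) j hj
    rw [Bool.or_eq_true, Nat.ble_eq] at this
    have h2 := wB_eq (F := F) (this.resolve_left (by omega))
    rwa [wB_append, wB_append, ← sq] at h2
  obtain ⟨φ, hφ⟩ := H2.Carm.exists_hom h01 (fun c => wB chevE6 F (tw (c.1.val - 2)))
    (fun c => by
      have h2 := wB_eq (F := F) ((allN_iff _ _).mp tw_cube _ (hlt c))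
      rwa [wB_append, wB_append, ← pow_three'] at h2)
    (fun c d hcd => by
      have h1 : c.1.val - 2 ≠ d.1.val - 2 := fun e => hcd (Subtype.ext (Fin.ext (by
        have a1 : c.1.val ≠ 0 := fun e => c.2.1 (Fin.ext e.symm)
        have a2 : c.1.val ≠ 1 := fun e => c.2.2 (Fin.ext e.symm)
        have a3 : d.1.val ≠ 0 := fun e => d.2.1 (Fin.ext e.symm)
        have a4 : d.1.val ≠ 1 := fun e => d.2.2 (Fin.ext e.symm)
        omega)))
      rcases lt_or_gt_of_ne h1 with h | h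
      · exact hp _ (hlt c) _ (hlt d) h
      · have := hp _ (hlt d) _ (hlt c) h
        generalize wB chevE6 F (tw (c.1.val - 2)) = x, wB chevE6 F (tw (d.1.val - 2)) = y at this
        rw [show (x * y) ^ 2 = x * (y * x) ^ 2 * x⁻¹ by simp only [sq]; group, this]; group)
  have hr : φ.range = LL F := by
    refine le_antisymm ?_ ((Subgroup.closure_le _).mpr ?_)
    · rw [MonoidHom.range_eq_map, ← H2.Carm.closure_cyc h01, MonoidHom.map_closure,
        Subgroup.closure_le]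
      rintro _ ⟨_, ⟨c, rfl⟩, rfl⟩
      rw [hφ]; exact wB_mem_LL (tw_mem _ (hlt c))
    · rintro _ ⟨r, hr, rfl⟩
      obtain ⟨e, he, h1, h2⟩ := rwL_cov r hr
      rw [← wB_single, ← h1, wB_eq ((lall_iff _ _).mp rw_eq e he)]
      refine wB_flatMap fun i hi => ?_
      have := h2 i hi
      exact ⟨_, hφ ⟨⟨i + 2, by omega⟩, fun e => by simp [Fin.ext_iff] at e,
        fun e => by simp [Fin.ext_iff] at e⟩⟩
  have := alternatingGroup.isSimpleGroup (α := Fin 8) (by simp)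
  refine ⟨φ, (MonoidHom.ker_eq_bot_iff φ).mp ((φ.normal_ker.eq_bot_or_eq_top).resolve_right
    fun h => ?_), hr⟩
  obtain ⟨s, hs⟩ : (glSys chevE6 F).x (β 0) 1 ∈ φ.range := hr ▸ x_mem_LL (β_mem 0)
  have h1 : φ s = 1 := by rw [← MonoidHom.mem_ker, h]; trivial
  rw [h1, ← (glSys chevE6 F).x_zero (β 0)] at hs
  exact zero_ne_one ((glSys chevE6 F).x_inj hs)

theorem φ_two [CharP F 2] {T : Tw (glSys chevE6 F) symE6} {ψ : F → F}
    (h : ∀ r t, T.φ r t = (sgn (bit gEE6 r) 1 : ℤ) * ψ t) (r : R6) (t : F) : T.φ r t = ψ t := by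
  rw [h, sgn_eq]; simp [CharTwo.neg_eq]

end a8

section classes
variable {K : Type*} [Field K] [Fintype K] (hK : Fintype.card K = 4)
include hK

theorem charK : CharP K 2 := charP_of_card_eq_prime_pow (f := 2) hK

theorem exC : Nonempty (CE6 K 2) := exists_CE6 (Nat.prime_two.isPrimePow) hK

theorem blk_mem {l : List ℕ} (h : ∀ r ∈ l, r < 72) :
    wB chevE6 K (l.flatMap blk) ∈ twistedE6 K 2 := by
  have := charK hK
  obtain ⟨C⟩ := exC hK
  refine wB_flatMap fun i hi => ?_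
  obtain ⟨r, rfl⟩ : ∃ r : R6, (r : ℕ) = i := ⟨⟨i, h i hi⟩, rfl⟩
  obtain ⟨h1, h2, h3⟩ := rh_chk r
  have e : ∀ s, C.T.φ s 1 = 1 := fun s => by rw [φ_two C.hT, map_one]
  rw [C.eq_Fx, blk, ← h1]
  split_ifs with h4
  · rw [wB_single]; exact (Tw.x_mem_Fx (Fin.ext h4)).mpr (e r)
  · rw [wB_cons, wB_single, wB_single]
    have := Tw.two_mem (T := C.T) (t := 1) rfl h2
      ((glSys chevE6 K).commute_nil (h3 fun h => h4 (congrArg _ h))) (by rw [e, e])
    rwa [e] at this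

theorem card_G : Nat.card (twistedE6 K 2) = 76532479683774853939200 := by
  have := card_twE6 (q := 2) (Nat.prime_two.isPrimePow) hK
  norm_num at this
  omega

omit hK in
theorem wB_pw (w : List ℕ) (n : ℕ) :
    wB chevE6 K ((pw w n).flatMap blk) = wB chevE6 K (w.flatMap blk) ^ n := by
  induction n with
  | zero => rfl
  | succ n ih =>
    rw [pw, List.replicate_succ, List.flatten_cons, List.flatMap_append, wB_append, pow_succ', ← ih]
    rfl

theorem cj_lt : ∀ e ∈ cjL, ∀ r ∈ e.2.2, r < 72 := by decide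

theorem exists_ab : ∃ a b : twistedE6 K 2, a ≠ 1 ∧ a ^ 5 = 1 ∧ Commute a b ∧
    ∀ e ∈ cjL, IsConj a (a ^ e.1 * b ^ e.2.1) := by
  have := charK hK
  refine ⟨⟨_, blk_mem hK (l := aw) (by decide)⟩, ⟨_, blk_mem hK (l := bw) (by decide)⟩,
    fun h => aw_ne (congrArg Subtype.val h), Subtype.ext ?_, Subtype.ext ?_, fun e he => ?_⟩
  · exact (wB_pw aw 5).symm.trans (wB_eq aw_five)
  · have := wB_eq (F := K) ab_comm
    rwa [List.flatMap_append, List.flatMap_append, wB_append, wB_append] at this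
  · have := wB_eq (F := K) ((lall_iff _ _).mp cj_eq e he)
    simp only [List.flatMap_append, wB_append, wB_pw] at this
    exact isConj_iff.mpr ⟨⟨_, blk_mem hK (cj_lt hK e he)⟩,
      mul_inv_eq_iff_eq_mul.mpr (Subtype.ext this)⟩

omit hK in
theorem conj_all {G : Type*} [Group G] {a b : G} (h5 : a ^ 5 = 1) (hc : Commute a b)
    (h : ∀ e ∈ cjL, IsConj a (a ^ e.1 * b ^ e.2.1)) : b ^ 5 = 1 ∧
      ∀ i < 5, ∀ j < 5, (i = 0 ∧ j = 0) ∨ IsConj a (a ^ i * b ^ j) := by
  have hh : ∀ i j, (∃ e ∈ cjL, e.1 = i ∧ e.2.1 = j) → IsConj a (a ^ i * b ^ j) := by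
    rintro _ _ ⟨e, he, rfl, rfl⟩; exact h e he
  have h2 : IsConj a (a ^ 2) := by simpa using hh 2 0 (by decide)
  have hb : IsConj a b := by simpa using hh 0 1 (by decide)
  have b5 : b ^ 5 = 1 := by
    have := hb.pow 5
    rw [h5] at this; exact isConj_one_right.mp this
  have h4 : IsConj a (a ^ 4) := h2.trans (by simpa [← pow_mul] using h2.pow 2)
  have h3 : IsConj a (a ^ 3) := by
    have := h4.trans (h2.pow 4)
    rwa [← pow_mul, show 2 * 4 = 5 + 3 from rfl, pow_add, h5, one_mul] at this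
  have hp : ∀ n, 0 < n → n < 5 → IsConj a (a ^ n) := by
    intro n h0 h1
    interval_cases n
    exacts [by rw [pow_one], h2, h3, h4]
  refine ⟨b5, fun i hi j hj => ?_⟩
  rcases Nat.eq_zero_or_pos j with rfl | j0
  · rcases Nat.eq_zero_or_pos i with rfl | i0
    · exact Or.inl ⟨rfl, rfl⟩
    · exact Or.inr (by simpa using hp i i0 hi)
  · obtain ⟨m, hm, e⟩ : ∃ m < 5, m * j % 5 = i := by
      clear hp h3 h4 b5 hb h2 hh h hc h5
      interval_cases i <;> interval_cases j <;> decide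
    have h1 : IsConj a (a ^ m * b ^ 1) := hh m 1 (by interval_cases m <;> decide)
    have h6 := (hp j j0 hj).trans (h1.pow j)
    rw [((hc.pow_left m).pow_right 1).mul_pow, ← pow_mul, ← pow_mul, one_mul,
      pow_eq_pow_mod _ h5, e] at h6
    exact Or.inr h6

theorem conj_five : ∃ a : twistedE6 K 2, ∀ x : twistedE6 K 2, orderOf x = 5 → IsConj a x := by
  obtain ⟨a, b, h1, h5, hc, h⟩ := exists_ab hK
  obtain ⟨b5, hall⟩ := conj_all h5 hc h
  have : Finite (twistedE6 K 2) := Nat.finite_of_card_ne_zero (by rw [card_G hK]; decide)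
  have : Fact (Nat.Prime 5) := ⟨by decide⟩
  let Q : Subgroup (twistedE6 K 2) :=
    { carrier := {x | ∃ i < 5, ∃ j < 5, x = a ^ i * b ^ j}
      one_mem' := ⟨0, by decide, 0, by decide, by simp⟩
      mul_mem' := by
        rintro _ _ ⟨i, -, j, -, rfl⟩ ⟨i', -, j', -, rfl⟩
        refine ⟨(i + i') % 5, Nat.mod_lt _ (by decide), (j + j') % 5, Nat.mod_lt _ (by decide), ?_⟩
        rw [← pow_eq_pow_mod _ h5, ← pow_eq_pow_mod _ b5, pow_add, pow_add,
          ((hc.pow_left i').pow_right j).symm.mul_mul_mul_comm]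
      inv_mem' := by
        rintro _ ⟨i, hi, j, hj, rfl⟩
        refine ⟨(5 - i) % 5, Nat.mod_lt _ (by decide), (5 - j) % 5, Nat.mod_lt _ (by decide), ?_⟩
        rw [← pow_eq_pow_mod _ h5, ← pow_eq_pow_mod _ b5, eq_comm, ← mul_eq_one_iff_eq_inv,
          ((hc.pow_left i).pow_right (5 - j)).symm.mul_mul_mul_comm, ← pow_add, ← pow_add,
          Nat.sub_add_cancel hi.le, Nat.sub_add_cancel hj.le, h5, b5, one_mul] }
  have hQ : Nat.card Q = 25 := by
    have e : Nat.card (Fin 5 × Fin 5) = 25 := by simp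
    rw [← e]
    refine (Nat.card_eq_of_bijective (fun p : Fin 5 × Fin 5 =>
      (⟨a ^ p.1.val * b ^ p.2.val, _, p.1.2, _, p.2.2, rfl⟩ : Q)) ⟨?_, ?_⟩).symm
    · rintro ⟨⟨i, hi⟩, j, hj⟩ ⟨⟨i', hi'⟩, j', hj'⟩ e
      have e1 : a ^ i * b ^ j = a ^ i' * b ^ j' := congrArg Subtype.val e
      have e2 : a ^ ((i + (5 - i')) % 5) * b ^ ((j + (5 - j')) % 5) = 1 := by
        rw [← pow_eq_pow_mod _ h5, ← pow_eq_pow_mod _ b5, pow_add, pow_add,
          ((hc.pow_left (5 - i')).pow_right j).mul_mul_mul_comm, e1,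
          ((hc.pow_left (5 - i')).pow_right j').symm.mul_mul_mul_comm, ← pow_add, ← pow_add,
          Nat.add_sub_cancel' hi'.le, Nat.add_sub_cancel' hj'.le, h5, b5, one_mul]
      rcases hall _ (Nat.mod_lt (i + (5 - i')) (by decide)) _ (Nat.mod_lt (j + (5 - j')) (by decide))
        with ⟨h2, h3⟩ | h2
      · refine Prod.ext (Fin.ext ?_) (Fin.ext ?_) <;> simp only <;> omega
      · rw [e2] at h2; exact absurd (isConj_one_left.mp h2) h1
    · rintro ⟨_, i, hi, j, hj, rfl⟩; exact ⟨(⟨i, hi⟩, ⟨j, hj⟩), rfl⟩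
  have hf : (Nat.card (twistedE6 K 2)).factorization 5 = 2 := by
    rw [card_G hK, show 76532479683774853939200 = 5 ^ 2 * 3061299187350994157568 by norm_num,
      Nat.factorization_mul (by norm_num) (by norm_num), Finsupp.add_apply,
      Nat.factorization_eq_zero_of_not_dvd (n := 3061299187350994157568) (by norm_num),
      Nat.Prime.factorization_pow (by decide)]
    simp
  let P : Sylow 5 (twistedE6 K 2) := Sylow.ofCard Q (by rw [hQ, hf]; rfl)
  refine ⟨a, fun x hx => ?_⟩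
  have hp : IsPGroup 5 (Subgroup.zpowers x) :=
    IsPGroup.of_card (n := 1) (by rw [Nat.card_zpowers, hx]; rfl)
  obtain ⟨P', hP'⟩ := hp.exists_le_sylow
  obtain ⟨g, hg⟩ := MulAction.exists_smul_eq (twistedE6 K 2) P' P
  have hm : g * x * g⁻¹ ∈ Q := by
    change _ ∈ P.toSubgroup
    rw [← hg, Sylow.coe_subgroup_smul]
    exact Subgroup.smul_mem_pointwise_smul _ (MulAut.conj g) _ (hP' (Subgroup.mem_zpowers x))
  obtain ⟨i, hi, j, hj, e⟩ := hm
  have hc2 : IsConj x (a ^ i * b ^ j) := isConj_iff.mpr ⟨g, e⟩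
  rcases hall i hi j hj with ⟨rfl, rfl⟩ | h2
  · rw [pow_zero, pow_zero, one_mul, isConj_one_left] at hc2
    rw [hc2, orderOf_one] at hx; omega
  · exact h2.trans hc2.symm

theorem exists_cent : ∃ a : twistedE6 K 2, orderOf a = 5 ∧ (∀ s ∈ LL K, Commute a.1 s) ∧
    ∀ y : twistedE6 K 2, Commute y a → ∃ i : ℤ, ∃ s ∈ LL K, y.1 = a.1 ^ i * s := by
  have := charK hK
  obtain ⟨C⟩ := exC hK
  let k := FiniteField.Extension K 2 2
  let ι : K →+* k := algebraMap K k
  have : CharP k 2 := charP_of_injective_ringHom ι.injective 2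
  have hk : Nat.card k = 16 := by
    rw [FiniteField.natCard_extension, Nat.card_eq_fintype_card, hK]; rfl
  obtain ⟨θ, hθ'⟩ := IsCyclic.exists_generator (α := kˣ)
  have hθ : orderOf θ = 15 := by
    rw [orderOf_eq_card_of_forall_mem_zpowers hθ', Nat.card_units, hk]
  obtain ⟨T, hT0⟩ := exists_twE6 (frobenius k 2)
  have hT : ∀ r t, T.φ r t = t ^ 2 := fun r t => φ_two hT0 r t
  set j := (fieldGL chevE6 ι).f with hj
  have jx : ∀ r t, j ((glSys chevE6 K).x r t) = (glSys chevE6 k).x r (ι t) := (fieldGL chevE6 ι).f_x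
  have jinj : Function.Injective j := fun a b h => Units.ext
    (Matrix.map_injective ι.injective (congrArg Units.val h))
  have h4 : ∀ t : K, ι t ^ 2 ^ 2 = ι t := fun t => by
    rw [← map_pow, show 2 ^ 2 = Fintype.card K from hK.symm, FiniteField.pow_card]
  have jG : twistedE6 K 2 ≤ T.Fx.comap j := by
    refine genSubgroup_le.mpr ?_
    rintro _ (⟨t, ht, r, hr, rfl⟩ | ⟨t, rs, hr, rfl⟩)
    · obtain ⟨s, rfl, hs⟩ : ∃ s : R6, (s : ℕ) = r ∧ symE6.p s = s := by
        revert r; decide +kernel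
      have e : wd (glSys chevE6 K).x [((s : ℕ), t)] = (glSys chevE6 K).x s t := by simp
      rw [Subgroup.mem_comap, e, jx, Tw.x_mem_Fx hs, hT, ← map_pow, ht]
    · obtain ⟨s, h1, h2, h3⟩ : ∃ s : R6, (s : ℕ) = rs.1 ∧ ((symE6.p s : R6) : ℕ) = rs.2 ∧
          symE6.p s ≠ s := by
        revert rs; decide +kernel
      rw [Subgroup.mem_comap, ← h1, ← h2, wd_two, map_mul, jx, jx, map_pow, ← hT s]
      exact Tw.two_mem rfl (rh_chk s).2.1 ((glSys chevE6 k).commute_nil ((rh_chk s).2.2 h3))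
        (by rw [hT, hT, ← pow_mul]; exact h4 t)
  have jL : (LL K).map j = LL k := by
    rw [LL, MonoidHom.map_closure, LL]
    congr 1; ext a
    constructor
    · rintro ⟨_, ⟨r, hr, rfl⟩, rfl⟩; exact ⟨r, hr, by rw [jx, map_one]⟩
    · rintro ⟨r, hr, rfl⟩; exact ⟨_, ⟨r, hr, rfl⟩, by rw [jx, map_one]⟩
  have hz : ∀ a b : ℤ, ((θ ^ a : kˣ) : k) = ((θ ^ b : kˣ) : k) ↔ 15 ∣ a - b := fun a b => by
    rw [Units.val_inj, zpow_eq_iff hθ]
  set l : k := ((θ ^ (3 : ℤ) : kˣ) : k) with hl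
  have l0 : l ≠ 0 := Units.ne_zero _
  have lp : ∀ n : ℕ, l ^ n = ((θ ^ (3 * n : ℤ) : kˣ) : k) := fun n => by
    rw [hl, ← Units.val_pow_eq_pow_val, ← zpow_natCast, ← zpow_mul]
  have l1 : ∀ n : ℕ, l ^ n = 1 ↔ 5 ∣ n := fun n => by
    rw [lp, show (1 : k) = ((θ ^ (0 : ℤ) : kˣ) : k) by simp, hz]; omega
  have l5 : l ^ 5 = 1 := (l1 5).mpr dvd_rfl
  have li : l⁻¹ = l ^ 4 := inv_eq_of_mul_eq_one_right (by rw [← pow_succ', l5])
  have h2 : (2 : k) = 0 := CharTwo.two_eq_zero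
  obtain ⟨ω, hω⟩ : l + l⁻¹ ∈ ι.fieldRange := by
    rw [mem_fieldRange_iff, hK, li, show 4 = 2 ^ 2 from rfl, add_pow_char_pow]
    linear_combination (l ^ 11 + l ^ 6 + l) * l5
  replace hω : ι ω = l + l⁻¹ := hω
  have ω0 : ι ω ≠ 0 := by
    rw [hω, li]
    intro h
    have : l ^ 3 = 1 := mul_left_cancel₀ l0 (by linear_combination h - l * h2)
    rw [l1] at this; omega
  obtain ⟨g1, hg1, e1⟩ := R3.exists_conj_h (r := p1) gl_R3 (s := 1) ω0 l0
    (by rw [← sq, Ne, l1]; omega) (by rw [h2, zero_add, mul_one, hω])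
  obtain ⟨g6, hg6, e6⟩ := R3.exists_conj_h (r := p6) gl_R3 (s := 1) (pow_ne_zero 2 ω0)
    (pow_ne_zero 2 l0) (by rw [← pow_add, Ne, l1]; omega)
    (by rw [h2, zero_add, mul_one, hω, CharTwo.add_sq, inv_pow])
  have so : SO chevE6 p1 p6 := so3_E6
  let a : twistedE6 K 2 := ⟨_, mul_mem (C.two_mem (r := p1) (s := p6) (by decide +kernel) ω)
    (C.two_mem (r := ng p1) (s := ng p6) (by decide +kernel) 1)⟩
  have hh1 : (glSys chevE6 k).h p1 l ∈ (glSys chevE6 k).XS {p1, ng p1} :=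
    StSys.h_mem _ (Or.inl rfl) (Or.inr rfl) _
  have hh6 : (glSys chevE6 k).h p6 (l ^ 2) ∈ (glSys chevE6 k).XS {p6, ng p6} :=
    StSys.h_mem _ (Or.inl rfl) (Or.inr rfl) _
  have ea : j a = g1 * g6 * dz θ mc * (g1 * g6)⁻¹ := by
    have e0 : dz θ mc = (glSys chevE6 k).h p1 l * (glSys chevE6 k).h p6 (l ^ 2) := by
      rw [lp 2, hl, h_eq_dz, h_eq_dz, ← dz_add]; congr 1; funext i
      simp only [mc, ee, Pi.add_apply]; push_cast; ring
    change j (_ * _ * (_ * _)) = _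
    rw [map_mul, map_mul, map_mul, jx, jx, jx, jx, C.hψ, C.hψ, one_pow, map_one, map_pow,
      (so.commute _ (StSys.x_mem _ (Or.inr rfl) _) (StSys.x_mem _ (Or.inl rfl) _)).symm.mul_mul_mul_comm,
      e1, e6, e0]
    have c1 := (so.commute _ (inv_mem hg1) (mul_mem (mul_mem hg6 hh6) (inv_mem hg6))).eq
    have c2 := (so.commute _ hh1 hg6).eq
    calc _ = g1 * (glSys chevE6 k).h p1 l * (g1⁻¹ * (g6 * (glSys chevE6 k).h p6 (l ^ 2) * g6⁻¹)) := by
          group
      _ = g1 * ((glSys chevE6 k).h p1 l * g6) * (glSys chevE6 k).h p6 (l ^ 2) * g6⁻¹ * g1⁻¹ := by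
          rw [c1]; group
      _ = _ := by rw [c2]; group
  have hgP : g1 * g6 ∈ XP k := mul_mem
    (StSys.XS_mono _ (by rintro _ (rfl | rfl) <;> simp) hg1)
    (StSys.XS_mono _ (by rintro _ (rfl | rfl) <;> simp) hg6)
  have haP : a.1 ∈ XP K := mul_mem
    (mul_mem (StSys.x_mem _ (by simp) _) (StSys.x_mem _ (by simp) _))
    (mul_mem (StSys.x_mem _ (by simp) _) (StSys.x_mem _ (by simp) _))
  have hA : g1 * g6 * dz θ mc * (g1 * g6)⁻¹ ∈ T.Fx := ea ▸ jG a.2
  have d0 : dz θ 0 = 1 := by simpa using dz_smul θ 0 0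
  refine ⟨a, ?_, fun s hs => comm_PA haP (LL_le hs), fun y hy => ?_⟩
  · have : Fact (Nat.Prime 5) := ⟨by decide⟩
    rw [← Subgroup.orderOf_coe, ← orderOf_injective j jinj, ea]
    refine orderOf_eq_prime ?_ fun h => ?_
    · rw [conj_pow, ← zpow_natCast, ← dz_smul, (dz_eq_iff hθ (m' := 0)).mpr, d0]
      · simp
      · intro i; simp only [mc, Pi.smul_apply, smul_eq_mul, Pi.zero_apply]; push_cast; omega
    · rw [conj_eq_one_iff, ← d0, dz_eq_iff hθ] at h
      have := h (nE6 0)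
      rw [mc_tab] at this
      revert this; decide
  · obtain ⟨i, s, hs, e⟩ := cent_main hT hθ hθ' hgP hA (jG y.2)
      (ea ▸ (hy.map (twistedE6 K 2).subtype).map j)
    rw [← jL] at hs
    obtain ⟨s, hs, rfl⟩ := hs
    exact ⟨i, s, hs, jinj (by rw [e, map_mul, map_zpow, ea])⟩

theorem LL_le_G : LL K ≤ twistedE6 K 2 := by
  have := charK hK
  obtain ⟨C⟩ := exC hK
  rw [C.eq_Fx]
  exact LL_le_Fx fun r t => by rw [φ_two C.hT, C.hψ]

theorem exists_iso : ∃ a : twistedE6 K 2, orderOf a = 5 ∧ Nonempty (Subgroup.centralizer {a} ≃*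
    (Multiplicative (ZMod 5) × alternatingGroup (Fin 8))) := by
  have := charK hK
  obtain ⟨a, h5, hc, h⟩ := exists_cent hK
  obtain ⟨φ, hφ, hr⟩ := exists_A8 K
  have hm : ∀ s, φ s ∈ LL K := fun s => hr ▸ ⟨s, rfl⟩
  let A : Subgroup.centralizer {a} := ⟨a, Subgroup.mem_centralizer_singleton_iff.mpr rfl⟩
  have hA : orderOf A = 5 := by rw [← Subgroup.orderOf_coe]; exact h5
  let ψ : alternatingGroup (Fin 8) →* Subgroup.centralizer {a} :=
    (φ.codRestrict _ fun s => LL_le_G hK (hm s)).codRestrict _ fun s =>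
      Subgroup.mem_centralizer_singleton_iff.mpr (Subtype.ext (hc _ (hm s)).symm.eq)
  have ψinj : Function.Injective ψ := fun s t e => hφ (congrArg (fun x => x.1.1) e)
  let χ : Multiplicative (ZMod 5) →* Subgroup.centralizer {a} :=
    (ZMod.lift 5 ⟨zmultiplesHom (Additive (Subgroup.centralizer {a})) (Additive.ofMul A), by
      rw [zmultiplesHom_apply, natCast_zsmul, ← ofMul_pow, ← hA, pow_orderOf_eq_one]; rfl⟩
      ).toMultiplicativeLeft
  have hχ : ∀ i : ℤ, χ (Multiplicative.ofAdd (i : ZMod 5)) = A ^ i := fun i => by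
    simp [χ]
  have hsur : ∀ x : Multiplicative (ZMod 5), ∃ i : ℤ, x = Multiplicative.ofAdd (i : ZMod 5) :=
    fun x => by
      obtain ⟨i, hi⟩ := ZMod.intCast_surjective x.toAdd
      exact ⟨i, by rw [hi]; rfl⟩
  have hAc : ∀ y : Subgroup.centralizer {a}, Commute A y := fun y =>
    Subtype.ext (Subgroup.mem_centralizer_singleton_iff.mp y.2).symm
  have hcomm : ∀ x s, Commute (χ x) (ψ s) := fun x s => by
    obtain ⟨i, rfl⟩ := hsur x
    rw [hχ]; exact (hAc _).zpow_left i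
  refine ⟨a, h5, ⟨(MulEquiv.ofBijective (χ.noncommCoprod ψ hcomm) ⟨?_, ?_⟩).symm⟩⟩
  · rw [injective_iff_map_eq_one]
    rintro ⟨x, s⟩ e
    obtain ⟨i, rfl⟩ := hsur x
    rw [MonoidHom.noncommCoprod_apply, hχ] at e
    have e1 : ψ s = A ^ (-i) := by rw [zpow_neg]; exact eq_inv_of_mul_eq_one_right e
    have hs : s ∈ Subgroup.center (alternatingGroup (Fin 8)) := Subgroup.mem_center_iff.mpr fun t =>
      ψinj (by rw [map_mul, map_mul, e1]; exact ((hAc _).zpow_left _).eq.symm)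
    rw [alternatingGroup.center_eq_bot (by simp), Subgroup.mem_bot] at hs
    subst hs
    rw [map_one, mul_one, ← orderOf_dvd_iff_zpow_eq_one, hA] at e
    refine Prod.ext ?_ rfl
    exact congrArg Multiplicative.ofAdd ((ZMod.intCast_zmod_eq_zero_iff_dvd i 5).mpr e)
  · intro y
    obtain ⟨i, s, hs, e⟩ := h y.1 (Subgroup.mem_centralizer_singleton_iff.mp y.2)
    obtain ⟨t, rfl⟩ : s ∈ φ.range := hr ▸ hs
    refine ⟨(Multiplicative.ofAdd (i : ZMod 5), t), ?_⟩
    rw [MonoidHom.noncommCoprod_apply, hχ]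
    refine Subtype.ext (Subtype.ext ?_)
    rw [e]; simp [A, ψ]

end classes

end Cfsg.Agent.DCE.E6
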